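import Groth.Agent.AbscissaLB75.Plane.Divisors
import Groth.Agent.FFLib.Rational

/-!
The genus of a function field generated by a monic plane equation of total degree `n`: at most
`(n - 1)(n - 2)/2`.
-/

noncomputable section

set_option linter.style.haveILetI false

universe u v

namespace Groth.Agent.LangWeil75.Sharp

open FunFld WithZero Polynomial Groth.Agent.FFLib Groth.Agent.AbscissaLB75

variable {k : Type u} {K : Type v} [Field k] [Field K] [Algebra k K]

/-- The second coordinate has no more poles than the first. -/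
theorem val_le_exp_of_totalDegree (hF : IsFF k K) {x y : K} {g : k[X][X]} (hg : g.Monic)
    (hdeg : ∀ j, j ≤ g.natDegree → (g.coeff j).natDegree + j ≤ g.natDegree) (hy : ev x y g = 0)
    (Q : Place k K) : Q.1 y ≤ exp (poles (k := k) x Q) := by
  by_contra hlt
  rw [not_le] at hlt
  have hP : (0 : ℤ) ≤ poles (k := k) x Q := poles_nonneg x Q
  set n := g.natDegree with hn
  have hy0 : y ≠ 0 := fun h => by rw [h, map_zero] at hlt; exact not_lt_zero' hlt
  have hsum : ev x y g = ∑ i ∈ Finset.range (n + 1), aeval x (g.coeff i) * y ^ i := by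
    rw [ev_apply, eval₂_eq_sum_range]
    rfl
  rw [hy, Finset.sum_range_succ, hg.coeff_natDegree, map_one, one_mul, eq_comm, add_eq_zero_iff_neg_eq] at hsum
  have hvy : 0 < Q.1 y := zero_lt_iff.2 ((Valuation.ne_zero_iff _).2 hy0)
  have h1 : Q.1 y ^ n < Q.1 y ^ n := by
    calc Q.1 y ^ n = Q.1 (∑ i ∈ Finset.range n, aeval x (g.coeff i) * y ^ i) := by
          rw [← map_pow, ← hsum, Valuation.map_neg]
      _ < Q.1 y ^ n := by
          refine Q.1.map_sum_lt (pow_ne_zero _ hvy.ne') fun i hi => ?_
          rw [Finset.mem_range] at hi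
          obtain ⟨d, hd⟩ : ∃ d, n = i + d := ⟨n - i, by omega⟩
          rw [map_mul, map_pow, hd, pow_add, mul_comm (Q.1 y ^ i)]
          refine mul_lt_mul_of_pos_right ?_ (pow_pos hvy i)
          refine (val_aeval_le_exp hF x Q (D := d) (by have := hdeg i hi.le; omega)).trans_lt ?_
          rw [← nsmul_eq_mul, exp_nsmul]
          exact pow_lt_pow_left₀ hlt exp_pos.le (by omega)
  exact lt_irrefl _ h1

/-- **The genus bound for plane curves.** -/
theorem genus_le_of_totalDegree (hK : IsFunctionField k K) {x y : K} (hx : Transcendental k x)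
    (htop : IntermediateField.adjoin (IntermediateField.adjoin k ({x} : Set K)) ({y} : Set K) = ⊤)
    {g : k[X][X]} (hg : g.Monic) (hdeg : ∀ j, j ≤ g.natDegree → (g.coeff j).natDegree + j ≤ g.natDegree)
    (hy : ev x y g = 0) :
    2 * (genus k K : ℤ) ≤ ((g.natDegree : ℤ) - 1) * ((g.natDegree : ℤ) - 2) := by
  classical
  have hF : IsFF k K := hK.1
  set F := IntermediateField.adjoin k ({x} : Set K)
  haveI : FiniteDimensional F K := hF.finite_adjoin hx
  set n := Module.finrank F K with hn
  have hnat : (minpoly F y).natDegree = n := by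
    rw [← IntermediateField.adjoin.finrank (IsIntegral.of_finite F y), htop, IntermediateField.finrank_top']
  have hnpos : 0 < n := Module.finrank_pos
  have hle : n ≤ g.natDegree := by
    let σ : k[X] →+* F := (aeval (⟨x, IntermediateField.mem_adjoin_simple_self k x⟩ : F)).toRingHom
    have hroot : aeval y (g.map σ) = 0 := by
      rw [aeval_def, eval₂_map, ← hy, ev_apply]
      congr 1
      exact RingHom.ext fun c => (aeval_algHom_apply F.val _ c).symm
    rw [← hnat]
    exact (natDegree_le_of_dvd (minpoly.dvd F y hroot) (hg.map σ).ne_zero).trans natDegree_map_le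
  obtain ⟨N, hN⟩ := exists_riemann_eq hK
  have hdp := deg_poles hF hx
  obtain ⟨m, hm, hmn⟩ : ∃ m : ℕ, N ≤ (m : ℤ) ∧ n ≤ m :=
    ⟨N.toNat + n, by have := Int.self_le_toNat N; omega, by omega⟩
  let E : Divisor k K := (m : ℤ) • poles x
  have hdE : E.deg = (m : ℤ) * n := by rw [deg_zsmul, hdp]
  have hell := hN E (by
    rw [hdE]
    have : (m : ℤ) ≤ (m : ℤ) * n := le_mul_of_one_le_right (Int.natCast_nonneg m) (by exact_mod_cast hnpos)
    linarith)
  let ι := Σ j : Fin n, Fin (m + 1 - j)
  let e : ι → Fin (m + 1) × Fin n := fun p => (⟨p.2, by have := p.2.2; omega⟩, p.1)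
  have he : Function.Injective e := by
    rintro ⟨j, i⟩ ⟨j', i'⟩ h
    obtain ⟨h1, rfl⟩ := Prod.ext_iff.1 h
    congr 1
    exact Fin.ext (by simpa using congrArg Fin.val h1)
  have hind : LinearIndependent k fun p : Fin (m + 1) × Fin n => x ^ (p.1 : ℕ) * y ^ (p.2 : ℕ) := by
    have h1 : LinearIndependent F fun i : Fin n => y ^ (i : ℕ) :=
      (linearIndependent_pow (K := F) y).comp (Fin.cast hnat.symm) (Fin.cast_injective _)
    have h2 : LinearIndependent k fun i : Fin (m + 1) =>
        (⟨x ^ (i : ℕ), pow_mem (IntermediateField.mem_adjoin_simple_self k x) _⟩ : F) :=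
      LinearIndependent.of_comp F.val.toLinearMap
        ((linearIndependent_powers hx).comp (fun i : Fin (m + 1) => (i : ℕ)) Fin.val_injective)
    have h3 := linearIndependent_smul h2 h1
    have h4 : (fun p : Fin (m + 1) × Fin n => x ^ (p.1 : ℕ) * y ^ (p.2 : ℕ)) = fun p =>
        (⟨x ^ (p.1 : ℕ), pow_mem (IntermediateField.mem_adjoin_simple_self k x) _⟩ : F) • y ^ (p.2 : ℕ) := by
      funext p
      rw [IntermediateField.smul_def, smul_eq_mul]
    rw [h4]
    exact h3
  have hmem : ∀ p : ι, x ^ ((e p).1 : ℕ) * y ^ ((e p).2 : ℕ) ∈ L E := fun p Q => by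
    rw [map_mul, map_pow, map_pow]
    refine (mul_le_mul' (pow_le_pow_left' (val_le_exp_poles hF x Q) _)
      (pow_le_pow_left' (val_le_exp_of_totalDegree hF hg hdeg hy Q) _)).trans ?_
    rw [← pow_add, ← exp_nsmul, exp_le_exp, nsmul_eq_mul, Finsupp.smul_apply, smul_eq_mul]
    refine mul_le_mul_of_nonneg_right ?_ (poles_nonneg x Q)
    have := p.2.2
    have := p.1.2
    simp only [e]
    exact_mod_cast (by omega : (p.2 : ℕ) + p.1 ≤ m)
  haveI := L_finite hF E
  have hlb : Fintype.card ι ≤ ell E :=
    LinearIndependent.fintype_card_le_finrank (b := fun p => (⟨_, hmem p⟩ : L E))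
      (LinearIndependent.of_comp (L E).subtype (hind.comp e he))
  have hlb' : (Fintype.card ι : ℤ) ≤ ell E := by exact_mod_cast hlb
  have hcard : 2 * (Fintype.card ι : ℤ) = 2 * n * (m + 1) - n * ((n : ℤ) - 1) := by
    rw [Fintype.card_sigma]
    simp only [Fintype.card_fin]
    have key : ∀ t : ℕ, t ≤ n → 2 * ((∑ j ∈ Finset.range t, (m + 1 - j) : ℕ) : ℤ) =
        2 * t * (m + 1) - t * ((t : ℤ) - 1) := by
      intro t
      induction t with
      | zero => simp
      | succ t ih =>
        intro ht
        rw [Finset.sum_range_succ, Nat.cast_add, Nat.cast_sub (by omega), mul_add, ih (by omega)]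
        push_cast
        ring
    rw [← key n le_rfl, Finset.sum_range fun j => m + 1 - j]
  rw [hell, hdE] at hlb'
  have h1 : 2 * (genus k K : ℤ) ≤ ((n : ℤ) - 1) * ((n : ℤ) - 2) := by linarith
  refine h1.trans ?_
  have h2 : (n : ℤ) ≤ g.natDegree := by exact_mod_cast hle
  rcases eq_or_lt_of_le (Nat.one_le_iff_ne_zero.2 hnpos.ne') with h | h
  · rw [← h]
    push_cast
    rcases le_or_gt g.natDegree 1 with h3 | h3
    · obtain h4 : g.natDegree = 1 := le_antisymm h3 (by omega)
      rw [h4]; norm_num
    · have : (2 : ℤ) ≤ g.natDegree := by exact_mod_cast h3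
      nlinarith
  · have h3 : (2 : ℤ) ≤ n := by exact_mod_cast h
    exact mul_le_mul (by linarith) (by linarith) (by linarith) (by linarith)

end Groth.Agent.LangWeil75.Sharp
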