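import Groth.Agent.IntTh85.GrHilbApp
import Mathlib.Algebra.Module.Submodule.Union

/-!
Degrees of points of projective space, hyperplane sections, and linear forms without common zeros
on given varieties.
-/

noncomputable section

set_option linter.style.haveILetI false

universe u

open MvPolynomial Order

namespace Groth.Agent.LangWeil75.Sharp

open Groth.Agent.VarDim Groth.Agent.VarDim.ProjN Groth.Agent.IntTh85 Groth.Agent.IntTh85.GrHilbPoly
open Groth.Agent.IntTh85.GrHilbApp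

variable {k : Type u} [Field k] {n : ℕ}

local notation "𝒜" => CohB1.polyGrading n k
local notation "A" => MvPolynomial (Fin (n + 1)) k

/-- The degree of the variety of a point. -/
def pdeg (x : ProjectiveSpectrum 𝒜) : ℚ := degP (hp (pp x).asIdeal)

theorem isHilb_pp (x : ProjectiveSpectrum 𝒜) : IsHilb (pp x).asIdeal (hp (pp x).asIdeal) :=
  (hp_spec (isHomogeneous_pp x)).1

theorem natDegree_hp_pp (x : ProjectiveSpectrum 𝒜) : (hp (pp x).asIdeal).natDegree = pdim x :=
  (hilb_point (isHilb_pp x)).1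

/-- Linear forms. -/
def lf : (Fin (n + 1) → k) →ₗ[k] A where
  toFun v := ∑ i, v i • X i
  map_add' v w := by simp [add_smul, Finset.sum_add_distrib]
  map_smul' c v := by simp [Finset.smul_sum, mul_smul]

theorem lf_mem (v : Fin (n + 1) → k) : lf v ∈ 𝒜 1 := by
  simp only [lf, LinearMap.coe_mk, AddHom.coe_mk]
  exact Submodule.sum_mem _ fun i _ => Submodule.smul_mem _ _ (isHomogeneous_X k i)

theorem lf_single (i : Fin (n + 1)) : lf (Pi.single i (1 : k)) = X i := by
  simp [lf, Pi.single_apply, ite_smul]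

theorem exists_lf_notMem (x : ProjectiveSpectrum 𝒜) : ∃ v, lf v ∉ (pp x).asIdeal := by
  obtain ⟨i, hi⟩ := exists_X_notMem x
  exact ⟨Pi.single i 1, by rwa [lf_single]⟩

/-- The linear forms vanishing on the variety of a point. -/
def lfKer (x : ProjectiveSpectrum 𝒜) : Submodule k (Fin (n + 1) → k) :=
  (Submodule.restrictScalars k (pp x).asIdeal).comap lf

theorem lfKer_ne_top (x : ProjectiveSpectrum 𝒜) : lfKer x ≠ ⊤ := fun h => by
  obtain ⟨v, hv⟩ := exists_lf_notMem x
  exact hv ((h.ge trivial : v ∈ lfKer x))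

/-- The minimal primes of a hyperplane section. -/
theorem exists_cut {x : ProjectiveSpectrum 𝒜} {f : A} (hf : f ∈ 𝒜 1) (hfx : f ∉ (pp x).asIdeal)
    (hx : 1 ≤ pdim x) :
    ∃ S : Finset (ProjectiveSpectrum 𝒜), S.Nonempty ∧
      (∀ z ∈ S, pdim z + 1 = pdim x) ∧
      (∀ y, (pp x).asIdeal ≤ (pp y).asIdeal → f ∈ (pp y).asIdeal → ∃ z ∈ S, z ≤ y) ∧
      ∃ ℓ : ProjectiveSpectrum 𝒜 → ℕ, (∀ z ∈ S, 0 < ℓ z) ∧ pdeg x = ∑ z ∈ S, pdeg z * ℓ z := by
  classical
  set I := (pp x).asIdeal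
  haveI : I.IsPrime := (pp x).2
  set J := I ⊔ Ideal.span {f}
  have hJh : J.IsHomogeneous 𝒜 := isHomogeneous_sup (isHomogeneous_pp x) hf
  have hP := isHilb_pp x
  have hdim : 1 ≤ (hp I).natDegree := by rw [natDegree_hp_pp]; exact hx
  let M : Finset (Ideal A) := (Ideal.finite_minimalPrimes_of_isNoetherianRing A J).toFinset
  have hM : ∀ q, q ∈ M ↔ q ∈ J.minimalPrimes := fun q => Set.Finite.mem_toFinset _
  have hcut : ∀ q : M, ∃ z : ProjectiveSpectrum 𝒜, (pp z).asIdeal = q.1 ∧ pdim z + 1 = pdim x := fun q => by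
    obtain ⟨z, h1, h2⟩ := cut_minimal (isHomogeneous_pp x) one_pos hf hfx hP hdim ((hM q.1).1 q.2)
    exact ⟨z, h1, h2.trans (natDegree_hp_pp x)⟩
  choose pt hpt hptd using hcut
  have hpt_inj : Function.Injective pt := fun a b h => Subtype.ext (by rw [← hpt a, h, hpt b])
  refine ⟨Finset.univ.image pt, ?_, ?_, ?_, ?_⟩
  · obtain ⟨q, hq⟩ := Ideal.nonempty_minimalPrimes (I := J) fun htop => by
      have hle : J ≤ vertex k n := sup_le
        (le_vertex_of_isHomogeneous (isHomogeneous_pp x) (pp x).2.ne_top)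
        ((Ideal.span_singleton_le_iff_mem _).2 (IsHomogeneous.coeff_eq_zero (φ := f) (n := 1) hf (by simp)))
      exact vertex_isMaximal.ne_top (top_le_iff.1 (htop ▸ hle))
    exact ⟨pt ⟨q, (hM q).2 hq⟩, Finset.mem_image_of_mem _ (Finset.mem_univ _)⟩
  · intro z hz
    obtain ⟨q, -, rfl⟩ := Finset.mem_image.1 hz
    exact hptd q
  · intro y hy hfy
    haveI := (pp y).2
    obtain ⟨q, hq, hqy⟩ := Ideal.exists_minimalPrimes_le
      (sup_le hy ((Ideal.span_singleton_le_iff_mem _).2 hfy) : J ≤ (pp y).asIdeal)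
    exact ⟨pt ⟨q, (hM q).2 hq⟩, Finset.mem_image_of_mem _ (Finset.mem_univ _),
      pp_le_pp.1 (le_of_eq_of_le (hpt _) hqy)⟩
  · let p : Fin (Fintype.card M) → Ideal A := fun i => ((Fintype.equivFin M).symm i).1
    haveI : ∀ i, (p i).IsPrime := fun i => ((hM _).1 ((Fintype.equivFin M).symm i).2).1.1
    have hpinj : Function.Injective p := Subtype.val_injective.comp (Equiv.injective _)
    have hpmin : ∀ q : Ideal A, q ∈ J.minimalPrimes ↔ ∃ i, q = p i := fun q =>
      ⟨fun hq => ⟨Fintype.equivFin M ⟨q, (hM q).2 hq⟩, by simp [p]⟩,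
        fun ⟨i, hi⟩ => hi ▸ (hM _).1 ((Fintype.equivFin M).symm i).2⟩
    have hQp : ∀ i, IsHilb (p i) (hp (pp (pt ((Fintype.equivFin M).symm i))).asIdeal) := fun i =>
      (congrArg (fun q => IsHilb q (hp (pp (pt ((Fintype.equivFin M).symm i))).asIdeal))
        (hpt ((Fintype.equivFin M).symm i))).mp (isHilb_pp _)
    have hb := bezout (isHomogeneous_pp x) one_pos hf hfx hP hdim _ p hpinj hpmin _ hQp
    rw [Nat.cast_one, one_mul] at hb
    refine ⟨fun z => (len J z).toNat, fun z hz => ?_, ?_⟩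
    · obtain ⟨q, -, rfl⟩ := Finset.mem_image.1 hz
      have hle : J ≤ (pp (pt q)).asIdeal := (hpt q).symm ▸ ((hM q.1).1 q.2).1.2
      have hB : Below J (pdim (pt q)) := fun y hy => by
        haveI := (pp y).2
        have h1 : pdim y < pdim x := pdim_strictAnti (lt_of_le_of_ne (pp_le_pp.1 (le_sup_left.trans hy))
          fun e => hfx (show f ∈ (pp x).asIdeal by
            rw [e]; exact hy (Ideal.mem_sup_right (Ideal.subset_span rfl))))
        have := hptd q
        omega
      obtain ⟨T, hT⟩ := exists_finset_points hJh hB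
      obtain ⟨ℓ, hℓ, -⟩ := ((hp_spec hJh).2.2 _ hB).2 T fun y h h' => (hT y).2 ⟨h, h'⟩
      have h2 : (ℓ (pt q) : ℕ∞) = len J (pt q) := hℓ _ ((hT _).2 ⟨hle, rfl⟩) rfl
      have h3 : len J (pt q) ≠ 0 := lenP_pos hle
      show 0 < (len J (pt q)).toNat
      rw [← h2, ENat.toNat_coe]
      exact Nat.pos_of_ne_zero fun h => h3 (by rw [← h2, h]; rfl)
    · rw [pdeg, hb, Finset.sum_image fun a _ b _ h => hpt_inj h]
      refine (Equiv.sum_comp (Fintype.equivFin M).symm fun q => _).symm.trans ?_ |>.symm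
      refine Finset.sum_congr rfl fun i _ => ?_
      show pdeg (pt _) * ((lenP J (pp (pt ((Fintype.equivFin M).symm i))).asIdeal).toNat : ℚ) = _
      rw [lenP_congr J (show (pp (pt ((Fintype.equivFin M).symm i))).asIdeal = p i from hpt _)]
      rfl

/-- The degree is a positive integer. -/
theorem exists_pdeg_nat : ∀ (r : ℕ) (x : ProjectiveSpectrum 𝒜), pdim x = r → ∃ d : ℕ, 0 < d ∧ pdeg x = d := by
  intro r
  induction r with
  | zero =>
    intro x hx
    obtain ⟨m₀, hm⟩ := isHilb_pp x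
    obtain ⟨c, hc⟩ := Polynomial.natDegree_eq_zero.1 ((natDegree_hp_pp x).trans hx)
    have hdeg : pdeg x = c := by
      rw [pdeg, degP, ← hc, Polynomial.natDegree_C, Polynomial.leadingCoeff_C]; simp
    have hcpos : 0 < c := by
      have h := (hilb_point (isHilb_pp x)).2
      rw [← pdeg, hdeg] at h
      rw [h]
      exact mul_pos (by positivity) (cc_pos x)
    have h := hm m₀ le_rfl
    rw [← hc, Polynomial.eval_C, GrHilbPoly.H] at h
    refine ⟨Module.finrank k ↥(𝒜 m₀) -
      Module.finrank k ↥(Submodule.restrictScalars k (pp x).asIdeal ⊓ 𝒜 m₀), ?_, ?_⟩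
    · rw [Nat.pos_iff_ne_zero]
      intro h0
      rw [h] at hcpos
      have h1 : ((Module.finrank k ↥(𝒜 m₀) : ℕ) : ℚ) ≤
          (Module.finrank k ↥(Submodule.restrictScalars k (pp x).asIdeal ⊓ 𝒜 m₀) : ℕ) := by
        exact_mod_cast Nat.sub_eq_zero_iff_le.1 h0
      linarith
    · rw [hdeg, h, Nat.cast_sub (Submodule.finrank_mono inf_le_right)]
  | succ r ih =>
    intro x hx
    obtain ⟨v, hv⟩ := exists_lf_notMem x
    obtain ⟨S, ⟨z₀, hz₀⟩, hdim, -, ℓ, hℓ, hsum⟩ := exists_cut (lf_mem v) hv (by omega)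
    choose d hd0 hd using fun z : S => ih z.1 (by have := hdim z.1 z.2; omega)
    refine ⟨∑ z : S, d z * ℓ z, Finset.sum_pos (fun z _ => Nat.mul_pos (hd0 z) (hℓ z z.2))
      ⟨⟨z₀, hz₀⟩, Finset.mem_univ _⟩, ?_⟩
    rw [hsum, Nat.cast_sum, ← Finset.sum_attach S (fun z => pdeg z * (ℓ z : ℚ))]
    refine Finset.sum_congr rfl fun z _ => ?_
    rw [Nat.cast_mul, hd z]

theorem one_le_pdeg (x : ProjectiveSpectrum 𝒜) : 1 ≤ pdeg x := by
  obtain ⟨d, hd, h⟩ := exists_pdeg_nat _ x rfl
  rw [h]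
  exact_mod_cast hd

theorem card_le_of_sum_pdeg {S : Finset (ProjectiveSpectrum 𝒜)} {d : ℕ} (h : ∑ x ∈ S, pdeg x ≤ d) :
    S.card ≤ d := by
  have h1 : (S.card : ℚ) ≤ d := le_trans (le_trans (by simp) (Finset.sum_le_sum fun x _ => one_le_pdeg x)) h
  exact_mod_cast h1

open scoped Classical in
/-- **Linear forms without common zero** on finitely many varieties of bounded dimension and degree,
with a side condition kept along the choice. -/
theorem exists_forms {d : ℕ} (hq : d + 1 < ENat.card k) :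
    ∀ (t : ℕ) (S : Finset (ProjectiveSpectrum 𝒜)), (∀ x ∈ S, pdim x ≤ t) → ∑ x ∈ S, pdeg x ≤ d →
      ∀ Good : Finset (Fin (n + 1) → k) → Prop, Good ∅ →
        (∀ s, Good s → s.card ≤ t → ∃ W : Submodule k (Fin (n + 1) → k),
          W ≠ ⊤ ∧ ∀ v ∉ W, v ∉ s ∧ Good (insert v s)) →
        ∃ s : Finset (Fin (n + 1) → k), Good s ∧ s.card = t + 1 ∧
          ∀ x ∈ S, ∀ y, x ≤ y → ∃ v ∈ s, lf v ∉ (pp y).asIdeal := by
  classical
  intro t
  induction t with
  | zero =>
    intro S hS hdeg Good h0 hstep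
    obtain ⟨W, hW, hWgood⟩ := hstep ∅ h0 le_rfl
    obtain ⟨v, hvW, hv⟩ : ∃ v, v ∉ W ∧ ∀ x ∈ S, v ∉ lfKer x := by
      have hc := Submodule.iUnion_ssubset_of_forall_ne_top_of_card_lt
        (ι := Option S) Finset.univ (fun o => o.elim W fun x => lfKer x.1)
        (fun o => by cases o <;> simp [hW, lfKer_ne_top])
        (lt_of_le_of_lt (by
          rw [Finset.card_univ, Fintype.card_option, Fintype.card_coe]
          exact_mod_cast Nat.add_le_add_right (card_le_of_sum_pdeg hdeg) 1) hq)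
      obtain ⟨v, -, hv⟩ := Set.exists_of_ssubset hc
      simp only [Finset.mem_univ, Set.iUnion_true, Set.mem_iUnion, not_exists] at hv
      exact ⟨v, hv none, fun x hx => hv (some ⟨x, hx⟩)⟩
    obtain ⟨hv0, hg⟩ := hWgood v hvW
    refine ⟨{v}, by simpa using hg, Finset.card_singleton v, fun x hx y hxy => ⟨v, Finset.mem_singleton_self v, ?_⟩⟩
    have hxy' : x = y := by
      by_contra hne
      have := pdim_strictAnti (lt_of_le_of_ne hxy hne)
      have := hS x hx
      omega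
    subst hxy'
    exact hv x hx
  | succ t ih =>
    intro S hS hdeg Good h0 hstep
    obtain ⟨W, hW, hWgood⟩ := hstep ∅ h0 (Nat.zero_le _)
    obtain ⟨v, hvW, hv⟩ : ∃ v, v ∉ W ∧ ∀ x ∈ S, v ∉ lfKer x := by
      have hc := Submodule.iUnion_ssubset_of_forall_ne_top_of_card_lt
        (ι := Option S) Finset.univ (fun o => o.elim W fun x => lfKer x.1)
        (fun o => by cases o <;> simp [hW, lfKer_ne_top])
        (lt_of_le_of_lt (by
          rw [Finset.card_univ, Fintype.card_option, Fintype.card_coe]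
          exact_mod_cast Nat.add_le_add_right (card_le_of_sum_pdeg hdeg) 1) hq)
      obtain ⟨v, -, hv⟩ := Set.exists_of_ssubset hc
      simp only [Finset.mem_univ, Set.iUnion_true, Set.mem_iUnion, not_exists] at hv
      exact ⟨v, hv none, fun x hx => hv (some ⟨x, hx⟩)⟩
    have hcut : ∀ x : S, ∃ T : Finset (ProjectiveSpectrum 𝒜), (∀ z ∈ T, pdim z ≤ t) ∧
        ∑ z ∈ T, pdeg z ≤ pdeg x.1 ∧
        ∀ y, x.1 ≤ y → lf v ∈ (pp y).asIdeal → ∃ z ∈ T, z ≤ y := by
      rintro ⟨x, hx⟩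
      rcases Nat.eq_zero_or_pos (pdim x) with h | h
      · replace h : pdim x = 0 := h
        refine ⟨∅, by simp, by simpa using zero_le_one.trans (one_le_pdeg x), fun y hxy hvy => ?_⟩
        exfalso
        rcases eq_or_lt_of_le hxy with rfl | hlt
        · exact hv x hx hvy
        · have h9 : pdim y < pdim x := pdim_strictAnti hlt
          omega
      · obtain ⟨T, -, hT1, hT2, ℓ, hℓ, hsum⟩ := exists_cut (lf_mem v) (hv x hx) h
        refine ⟨T, fun z hz => by have := hT1 z hz; have := hS x hx; omega, ?_,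
          fun y hxy hvy => hT2 y (pp_le_pp.2 hxy) hvy⟩
        rw [hsum]
        refine Finset.sum_le_sum fun z hz => le_mul_of_one_le_right (zero_le_one.trans (one_le_pdeg z)) ?_
        exact_mod_cast hℓ z hz
    choose T hT1 hT2 hT3 using hcut
    let S' := Finset.univ.biUnion T
    have hS' : ∑ z ∈ S', pdeg z ≤ d := by
      rw [show S' = (Finset.univ.sigma T).image Sigma.snd by ext z; simp [S']]
      refine (Finset.sum_image_le_of_nonneg fun z _ => zero_le_one.trans (one_le_pdeg z)).trans ?_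
      rw [Finset.sum_sigma]
      exact (Finset.sum_le_sum fun x _ => hT2 x).trans ((Finset.sum_coe_sort S pdeg).le.trans hdeg)
    obtain ⟨hv0, hg⟩ := hWgood v hvW
    obtain ⟨s, ⟨hsv, hgs⟩, hcard, hs⟩ := ih S'
      (fun z hz => by obtain ⟨x, -, hz⟩ := Finset.mem_biUnion.1 hz; exact hT1 x z hz) hS'
      (fun s => v ∉ s ∧ Good (insert v s)) ⟨by simp, hg⟩
      (fun s hs hst => by
        obtain ⟨W', hW', hW''⟩ := hstep (insert v s) hs.2 (by rw [Finset.card_insert_of_notMem hs.1]; omega)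
        refine ⟨W', hW', fun w hw => ?_⟩
        obtain ⟨h1, h2⟩ := hW'' w hw
        rw [Finset.mem_insert, not_or] at h1
        refine ⟨h1.2, ?_, by rwa [Finset.insert_comm] at h2⟩
        rw [Finset.mem_insert, not_or]
        exact ⟨Ne.symm h1.1, hs.1⟩)
    refine ⟨insert v s, hgs, by rw [Finset.card_insert_of_notMem hsv, hcard], fun x hx y hxy => ?_⟩
    by_cases hvy : lf v ∈ (pp y).asIdeal
    · obtain ⟨z, hz, hzy⟩ := hT3 ⟨x, hx⟩ y hxy hvy
      obtain ⟨w, hw, hwy⟩ := hs z (Finset.mem_biUnion.2 ⟨⟨x, hx⟩, Finset.mem_univ _, hz⟩) y hzy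
      exact ⟨w, Finset.mem_insert_of_mem hw, hwy⟩
    · exact ⟨v, Finset.mem_insert_self v s, hvy⟩

end Groth.Agent.LangWeil75.Sharp
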