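import Groth.Agent.LangWeil75.Sharp.Deg
import Groth.Agent.Pic13Lib.HilbCoeff
import Groth.Agent.Pic13Lib.Serre
import Groth.Agent.SurfInt.Surface
import Groth.Agent.SurfInt.Push
import Groth.Agent.H23.TwistAmple
import Groth.Agent.InvX.Pullback
import Groth.Agent.QCoh.HHExact
import Groth.Agent.PnCoh.TwistH0
import Groth.Agent.PnCoh.Chow.Proper
import Mathlib.FieldTheory.Finiteness

/-!
For a closed integral subscheme of projective space over a finite field, the dimension and the degree given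
by intersection numbers are those of the Hilbert polynomial of its homogeneous prime.
-/

noncomputable section

set_option autoImplicit false
set_option linter.style.haveILetI false
set_option linter.unusedSectionVars false
set_option backward.isDefEq.respectTransparency false
set_option backward.isDefEq.respectTransparency.types false

universe u

open CategoryTheory CategoryTheory.Limits AlgebraicGeometry TopologicalSpace Opposite Module

namespace Groth.Agent.LangWeil75.Sharp

open Groth.Agent Groth.Agent.VarDim Groth.Agent.VarDim.ProjN Groth.Agent.IntTh85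
open Groth.Agent.IntTh85.GrHilbPoly Groth.Agent.IntTh85.GrHilbApp Groth.Agent.Pic13Lib

variable {k : Type u} [Field k] {n : ℕ} {X : Scheme.{u}} (i : X ⟶ CohB1.ProjSpace n k)

local notation "𝒢" => CohB1.polyGrading n k

/-- The point of the subscheme's generic point. -/
def genPt [IrreducibleSpace X] : ProjectiveSpectrum 𝒢 := i (genericPoint X)

theorem pdim_genPt [IsClosedImmersion i] [IrreducibleSpace X] :
    topologicalKrullDim X = (pdim (genPt i) : WithBot ℕ∞) := by
  have h : closure ({genPt i} : Set (ProjectiveSpectrum 𝒢)) = Set.range i := by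
    refine Eq.trans ?_ Set.image_univ
    rw [← (genericPoint_spec X).def]
    exact (congrArg closure Set.image_singleton.symm).trans
      (i.isClosedEmbedding.isClosedMap.closure_image_eq_of_continuous i.continuous _)
  rw [← topologicalKrullDim_closure_singleton (genPt i), h]
  exact IsHomeomorph.topologicalKrullDim_eq _ i.isClosedEmbedding.isEmbedding.toHomeomorph.isHomeomorph

/-- Restriction of homogeneous polynomials to a closed subscheme. -/
def restrForms (m : ℕ) (f : 𝒢 m) : Γ(oX i (m : ℤ), ⊤) :=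
  InvX.pullElt i (M := Twist.twistProjSpace n k (m : ℤ)) (U := ⊤) (Twist.globalOf 𝒢 f)

theorem restrForms_eq_zero_iff [IsIntegral X] {m : ℕ} (f : 𝒢 m) :
    restrForms i m f = 0 ↔ (f : MvPolynomial (Fin (n + 1)) k) ∈ (pp (genPt i)).asIdeal := by
  let M := Twist.twistProjSpace n k (m : ℤ)
  let s : Γ(M, ⊤) := Twist.globalOf 𝒢 f
  let η := (Scheme.Modules.pullbackPushforwardAdjunction i).unit.app M
  have hres : ∀ (U : (CohB1.ProjSpace n k).Opens),
      InvX.pullElt i (AModX.res M (le_top : U ≤ ⊤) s) =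
        AModX.res (oX i (m : ℤ)) (i.preimage_mono le_top) (restrForms i m f) := fun U =>
    AModX.app_res η le_top s
  constructor
  · intro h0
    by_contra hf
    let W : (CohB1.ProjSpace n k).Opens := Proj.basicOpen 𝒢 (f : MvPolynomial (Fin (n + 1)) k)
    have hfr : InvX.IsFrame (AModX.res M (le_top : W ≤ ⊤) s) :=
      TwistX.isFrame_res_globalOf f.2 fun y => y.2
    have hfr' := InvX.isFrame_pullElt i hfr
    rw [hres, h0, map_zero] at hfr'
    haveI : Nonempty (i ⁻¹ᵁ W) := ⟨⟨genericPoint X, hf⟩⟩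
    have h10 : (1 : Γ(X, i ⁻¹ᵁ W)) = 0 := (hfr' _ le_rfl).1 (by simp only [map_zero, smul_zero])
    exact one_ne_zero h10
  · intro hf
    refine AModX.eq_of_locally _ _ fun z _ => ?_
    obtain ⟨j, hj⟩ := exists_X_notMem (k := k) (n := n) (i z)
    let U : (CohB1.ProjSpace n k).Opens := Proj.basicOpen 𝒢 (MvPolynomial.X j)
    have hXj : (MvPolynomial.X j : MvPolynomial (Fin (n + 1)) k) ∈ 𝒢 1 := MvPolynomial.isHomogeneous_X k j
    let e : Γ(M, U) := AModX.res M le_top (H23.TwistAmple.sec hXj m)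
    have he : InvX.IsFrame e := H23.TwistAmple.isFrame_sec hXj m
    refine ⟨i ⁻¹ᵁ U, i.preimage_mono le_top, hj, ?_⟩
    rw [map_zero]
    refine Eq.trans (hres U).symm ?_
    obtain ⟨g, hg⟩ := he.exists_coord le_rfl (AModX.res M (le_top : U ≤ ⊤) s)
    rw [AModX.res_self] at hg
    have hg0 : i.app U g = 0 := by
      rcases (i ⁻¹ᵁ U : Set X).eq_empty_or_nonempty with he0 | hne
      · haveI : Subsingleton Γ(X, i ⁻¹ᵁ U) := by
          rw [show i ⁻¹ᵁ U = ⊥ from Opens.ext he0]
          infer_instance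
        exact Subsingleton.elim _ _
      have hξ : genericPoint X ∈ i ⁻¹ᵁ U :=
        ((genericPoint_spec X).mem_open_set_iff (i ⁻¹ᵁ U).2).2 (by simpa using hne)
      haveI : Nonempty (i ⁻¹ᵁ U) := ⟨⟨_, hξ⟩⟩
      apply germ_injective_of_isIntegral X (genericPoint X) hξ
      rw [map_zero]
      by_contra hne0
      have hu : IsUnit ((i.stalkMap (genericPoint X)).hom
          ((CohB1.ProjSpace n k).presheaf.germ U _ hξ g)) := by
        have := congr($(i.germ_stalkMap U (genericPoint X) hξ) g)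
        erw [this]
        letI : Field (X.presheaf.stalk (genericPoint X)) := inferInstanceAs (Field X.functionField)
        exact isUnit_iff_ne_zero.2 hne0
      haveI : IsLocalHom (i.stalkMap (genericPoint X)).hom := inferInstance
      have hu' := isUnit_of_map_unit _ _ hu
      let W := (CohB1.ProjSpace n k).basicOpen g
      have hWU : W ≤ U := (CohB1.ProjSpace n k).basicOpen_le g
      have hxW : genPt i ∈ W := ((CohB1.ProjSpace n k).mem_basicOpen g _ hξ).2 hu'
      obtain ⟨c, hc⟩ := (RingedSpace.isUnit_res_basicOpen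
        (CohB1.ProjSpace n k).toLocallyRingedSpace.toRingedSpace g).exists_right_inv
      have hgx : IsUnit ((show Twist.O (𝒜 := 𝒢) (op U) from g).1 ⟨genPt i, hξ⟩) :=
        IsUnit.of_mul_eq_one _ (congrArg (fun t : Twist.O (𝒜 := 𝒢) (op W) => t.1 ⟨genPt i, hxW⟩) hc)
      have h := congrArg (fun q => ((show Twist.sectN (𝒜 := 𝒢) (m : ℤ) (op U) from q).1 ⟨genPt i, hξ⟩).1) hg
      have h' : (Localization.mk (f : MvPolynomial (Fin (n + 1)) k) 1 : Twist.Loc 𝒢 (genPt i)) =
          ((show Twist.O (𝒜 := 𝒢) (op U) from g).1 ⟨genPt i, hξ⟩).val *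
            Localization.mk (MvPolynomial.X j ^ m) 1 :=
        h.trans (Twist.coe_smul_val (m : ℤ) (genPt i) _ _)
      have hXu : IsUnit (Localization.mk (MvPolynomial.X j ^ m : MvPolynomial (Fin (n + 1)) k) 1 :
          Twist.Loc 𝒢 (genPt i)) := by
        rw [Localization.mk_one_eq_algebraMap]
        exact (IsLocalization.AtPrime.isUnit_to_map_iff _ (genPt i).asHomogeneousIdeal.toIdeal _).2
          (TwistX.notMem_pow hξ m)
      have hmul := (hgx.map (algebraMap _ (Twist.Loc 𝒢 (genPt i)))).mul hXu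
      rw [HomogeneousLocalization.algebraMap_apply, ← h', Localization.mk_one_eq_algebraMap] at hmul
      exact (IsLocalization.AtPrime.isUnit_to_map_iff _ (genPt i).asHomogeneousIdeal.toIdeal _).1 hmul hf
    have hs := congrArg (fun t => η.app U t) hg
    refine hs.trans ?_
    rw [Scheme.Modules.Hom.app_smul]
    show i.app U g • InvX.pullElt i e = 0
    rw [hg0, zero_smul]

variable [IsClosedImmersion i]

include i in
theorem isCoh_structureModule_of_closed : Coh.IsCoh (Coh.structureModule X) :=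
  haveI := isLocallyNoetherian_of_closed i
  SurfInt.isCoh_structureModule

theorem twistOn_structure (d : ℤ) : Nonempty (Pic13.twistOn k i (Coh.structureModule X) d ≅ oX i d) :=
  ⟨CurveTensor.structureTensorIso _⟩

/-- In large degrees every section of the twist of a closed subscheme is a restriction from projective space. -/
theorem exists_surjective_unit_app [X.Over (Spec (CommRingCat.of k))]
    (hi : i ≫ CohB1.ProjSpace.toSpec n k = X ↘ Spec (CommRingCat.of k)) [IsIntegral X] :
    ∃ m₀ : ℕ, ∀ m : ℕ, m₀ ≤ m → ∃ φ : oX i (m : ℤ) ⟶ oX i (m : ℤ), ∀ t : Γ(oX i (m : ℤ), ⊤),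
      ∃ f : 𝒢 m, φ.app ⊤ (restrForms i m f) = t := by
  haveI : IsProper (CohB1.ProjSpace n k ↘ Spec (CommRingCat.of k)) := PnCoh.Chow.isProper_toSpec n k
  obtain ⟨d₀, hd₀⟩ := serre (SurfInt.isCoh_idealMod k i.ker) 1 one_pos
  refine ⟨d₀.toNat, fun m hm => ?_⟩
  have hS := shortExact_twFun (m : ℤ) (SurfInt.shortExact_ideal i.ker)
  have hsurj := QCoh.app_top_surjective_of_HH_one hS (hd₀ m (by omega))
  let e₂ : (twFun (m : ℤ)).obj (Coh.structureModule (CohB1.ProjSpace n k)) ≅ Twist.twistProjSpace n k (m : ℤ) :=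
    CurveTensor.structureTensorIso _
  let e₃ : (twFun (m : ℤ)).obj (ClSub.quotMod i.ker) ≅ pushP i (oX i (m : ℤ)) :=
    (twFun (m : ℤ)).mapIso (SurfInt.nonempty_quotMod_iso i).some ≪≫
      (pushP_twistOn i (Coh.structureModule X) (m : ℤ)).some ≪≫
        (Scheme.Modules.pushforward i).mapIso (twistOn_structure i (m : ℤ)).some
  let Φ : Twist.twistProjSpace n k (m : ℤ) ⟶ pushP i (oX i (m : ℤ)) :=
    e₂.inv ≫ (twFun (m : ℤ)).map (ClSub.toSubscheme i.ker) ≫ e₃.hom
  let φ : oX i (m : ℤ) ⟶ oX i (m : ℤ) :=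
    ((Scheme.Modules.pullbackPushforwardAdjunction i).homEquiv _ _).symm Φ
  have hΦ : (Scheme.Modules.pullbackPushforwardAdjunction i).unit.app _ ≫
      (Scheme.Modules.pushforward i).map φ = Φ := by
    refine ((Scheme.Modules.pullbackPushforwardAdjunction i).homEquiv_unit (f := φ)).symm.trans ?_
    exact Equiv.apply_symm_apply _ _
  refine ⟨φ, fun t => ?_⟩
  obtain ⟨v, hv⟩ := hsurj (e₃.inv.app ⊤ t)
  obtain ⟨f, hf⟩ := PnCoh.exists_globalOf_eq (ι := Fin (n + 1)) (R := k) (d := m) (e₂.hom.app ⊤ v)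
  refine ⟨f, ?_⟩
  have h1 : Φ.app ⊤ (Twist.globalOf 𝒢 f) = t := by
    have hv' : e₂.inv.app ⊤ (Twist.globalOf 𝒢 f) = v :=
      (congrArg (e₂.inv.app ⊤) hf).trans congr(($(e₂.hom_inv_id)).app ⊤ v)
    refine Eq.trans (congrArg (fun w => e₃.hom.app ⊤ (((twFun (m : ℤ)).map
      (ClSub.toSubscheme i.ker)).app ⊤ w)) hv') ?_
    exact (congrArg (e₃.hom.app ⊤) hv).trans congr(($(e₃.inv_hom_id)).app ⊤ t)
  rw [← h1, ← hΦ]
  rfl

variable [Finite k]

/-- The Hilbert function computes sections of twists in large degrees. -/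
theorem exists_finrank_eq_H [X.Over (Spec (CommRingCat.of k))]
    (hi : i ≫ CohB1.ProjSpace.toSpec n k = X ↘ Spec (CommRingCat.of k)) [IsIntegral X] :
    ∃ m₀ : ℕ, ∀ m : ℕ, m₀ ≤ m →
      (finrank k (Coh.HH X (oX i (m : ℤ)) 0) : ℚ) = H (pp (genPt i)).asIdeal m := by
  obtain ⟨m₀, hm₀⟩ := exists_surjective_unit_app i hi
  refine ⟨m₀, fun m hm => ?_⟩
  haveI : Finite (𝒢 m) := Module.finite_of_finite k
  let ρ : 𝒢 m →+ Γ(oX i (m : ℤ), ⊤) := AddMonoidHom.mk' (restrForms i m) fun a b => by
    show InvX.pullElt i _ = InvX.pullElt i _ + InvX.pullElt i _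
    rw [show Twist.globalOf 𝒢 (a + b) = Twist.globalOf 𝒢 a + Twist.globalOf 𝒢 b from
      PnCoh.globalOf_add a b]
    exact map_add _ _ _
  obtain ⟨φ, hφ⟩ := hm₀ m hm
  have hsurj : Function.Surjective (fun f : 𝒢 m => φ.app ⊤ (ρ f)) := hφ
  haveI : Finite Γ(oX i (m : ℤ), ⊤) := Finite.of_surjective _ hsurj
  have hρ : Function.Surjective ρ := by
    have h1 : Function.Surjective (φ.app ⊤) := Function.Surjective.of_comp hsurj
    have h2 : Function.Injective (φ.app ⊤) := Finite.injective_iff_surjective.2 h1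
    intro t
    obtain ⟨f, hf⟩ := hsurj (φ.app ⊤ t)
    exact ⟨f, h2 hf⟩
  let e₀ : Coh.HH X (oX i (m : ℤ)) 0 ≃+ Γ(oX i (m : ℤ), ⊤) :=
    Sheaf.H.equiv₀ (Coh.toAb (oX i (m : ℤ))) isTerminalTop
  haveI : Finite (Coh.HH X (oX i (m : ℤ)) 0) := Finite.of_equiv _ e₀.symm.toEquiv
  set P : Submodule k (MvPolynomial (Fin (n + 1)) k) :=
    Submodule.restrictScalars k (pp (genPt i)).asIdeal ⊓ 𝒢 m
  haveI : Finite P := Finite.of_injective (Submodule.inclusion (inf_le_right : P ≤ 𝒢 m))
    (Submodule.inclusion_injective _)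
  have hker : Nat.card ρ.ker = Nat.card P := Nat.card_congr
    { toFun := fun f => ⟨f.1.1, (restrForms_eq_zero_iff i f.1).1 f.2, f.1.2⟩
      invFun := fun f => ⟨⟨f.1, f.2.2⟩, (restrForms_eq_zero_iff i ⟨f.1, f.2.2⟩).2 f.2.1⟩
      left_inv := fun _ => rfl
      right_inv := fun _ => rfl }
  have hcard := (AddSubgroup.card_eq_card_quotient_mul_card_addSubgroup ρ.ker).trans
    (by rw [Nat.card_congr (QuotientAddGroup.quotientKerEquivOfSurjective ρ hρ).toEquiv,
      ← Nat.card_congr e₀.toEquiv, hker])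
  rw [Module.natCard_eq_pow_finrank (K := k), Module.natCard_eq_pow_finrank (K := k) (V := P),
    Module.natCard_eq_pow_finrank (K := k) (V := Coh.HH X (oX i (m : ℤ)) 0), ← pow_add] at hcard
  have h := Nat.pow_right_injective (Finite.one_lt_card (α := k)) hcard
  rw [H, h]
  push_cast
  ring

/-- The Euler characteristic of twists is the Hilbert function in large degrees. -/
theorem exists_chiTwist_eq_H [X.Over (Spec (CommRingCat.of k))]
    (hi : i ≫ CohB1.ProjSpace.toSpec n k = X ↘ Spec (CommRingCat.of k)) [IsIntegral X] :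
    ∃ m₀ : ℕ, ∀ m : ℕ, m₀ ≤ m →
      (chiTwist k i (Coh.structureModule X) (m : ℤ) : ℚ) = H (pp (genPt i)).asIdeal m := by
  classical
  haveI := isLocallyNoetherian_of_closed i
  have hO := isCoh_structureModule_of_closed i
  obtain ⟨m₁, hm₁⟩ := exists_finrank_eq_H i hi
  choose d hd using fun q : ℕ => serre (isCoh_pushP i hO) (q + 1) (Nat.succ_pos q)
  refine ⟨m₁ + ∑ q ∈ Finset.range n, (d q).toNat, fun m hm => ?_⟩
  have hvan : ∀ q : ℕ, q ≠ 0 →
      Subsingleton (Coh.HH X (Pic13.twistOn k i (Coh.structureModule X) (m : ℤ)) q) := fun q hq => by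
    refine (subsingleton_HH_twistOn i hO _ q).2 ?_
    rcases le_or_gt q n with hqn | hqn
    · obtain ⟨q, rfl⟩ := Nat.exists_eq_succ_of_ne_zero hq
      refine hd q _ ?_
      have := Finset.single_le_sum (f := fun q => (d q).toNat) (fun _ _ => Nat.zero_le _)
        (Finset.mem_range.2 hqn)
      omega
    · exact ProjRegular.subsingleton_HH_high (isCoh_pushP i hO) _ q hqn
  rw [← hm₁ m (by omega), chiTwist, Curv2.euler, finsum_eq_single _ 0 fun q hq => by
    haveI := hvan q hq
    simp only [Module.finrank_zero_of_subsingleton, Nat.cast_zero, mul_zero]]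
  simp only [pow_zero, one_mul, Int.cast_natCast]
  rw [(CurveCohLib.hhEquiv (k := k) (twistOn_structure i (m : ℤ)).some 0).finrank_eq]

omit [Finite k] in
theorem bdiff_eq_fwdDiff (F : ℚ → ℚ) (f : ℤ → ℤ) (x₀ : ℤ) (hf : ∀ x, x₀ ≤ x → (f x : ℚ) = F x) :
    ∀ (r : ℕ) (x : ℤ), x₀ + r ≤ x → (bdiff r f x : ℚ) = (fwdDiff (1 : ℚ))^[r] F ((x : ℚ) - r)
  | 0, x, hx => by simpa [bdiff] using hf x (by simpa using hx)
  | r + 1, x, hx => by
    rw [bdiff, Int.cast_sub, bdiff_eq_fwdDiff F f x₀ hf r x (by push_cast at hx; omega),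
      bdiff_eq_fwdDiff F f x₀ hf r (x - 1) (by push_cast at hx; omega), Function.iterate_succ_apply',
      fwdDiff]
    push_cast
    ring_nf

/-- **Dimension and degree from intersection numbers.** -/
theorem pdim_eq_and_intNum_eq_pdeg [X.Over (Spec (CommRingCat.of k))]
    (hi : i ≫ CohB1.ProjSpace.toSpec n k = X ↘ Spec (CommRingCat.of k)) [IsIntegral X] {r : ℕ}
    (hr : topologicalKrullDim X = r) :
    pdim (genPt i) = r ∧
      (FGA.intNum k X r (fun _ : Fin r => oX i (-1)) (Coh.structureModule X) : ℚ) = pdeg (genPt i) := by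
  haveI : IsProper (CohB1.ProjSpace n k ↘ Spec (CommRingCat.of k)) := PnCoh.Chow.isProper_toSpec n k
  haveI : IsProper (X ↘ Spec (CommRingCat.of k)) := SurfInt.isProper_comp k i hi
  haveI := isLocallyNoetherian_of_closed i
  have hO := isCoh_structureModule_of_closed i
  have hdim : pdim (genPt i) = r := by
    have := (pdim_genPt i).symm.trans hr
    exact_mod_cast this
  refine ⟨hdim, ?_⟩
  set f := chiTwist k i (Coh.structureModule X)
  rw [SurfInt.intNum_eq_dn k hr.le (fun _ => isInvertible_oX i _) hO, dn_eq_bdiff_zero]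
  have hzero : ∀ x, bdiff (r + 1) f x = 0 := fun x => by
    rw [← dn_eq_bdiff]
    exact dn_cl_eq_zero (isCoh_twistOn i hO x) hr.le (Nat.lt_succ_self r) fun _ => isInvertible_oX i _
  have hper : Function.Periodic (bdiff r f) 1 := fun x => by
    have := hzero (x + 1)
    rw [bdiff, add_sub_cancel_right] at this
    omega
  obtain ⟨m₀, hm₀⟩ := exists_chiTwist_eq_H i hi
  obtain ⟨m₁, hm₁⟩ := isHilb_pp (genPt i)
  set P := hp (pp (genPt i)).asIdeal
  have hP : P.natDegree = r := (natDegree_hp_pp (genPt i)).trans hdim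
  have hf : ∀ x : ℤ, ((m₀ + m₁ : ℕ) : ℤ) ≤ x → (f x : ℚ) = P.eval (x : ℚ) := fun x hx => by
    obtain ⟨m, rfl⟩ : ∃ m : ℕ, x = m := ⟨x.toNat, by omega⟩
    rw [hm₀ m (by omega), ← hm₁ m (by omega)]
    simp
  rw [show bdiff r f 0 = bdiff r f (0 + ((m₀ + m₁ + r : ℕ) : ℤ) * 1) from
      (hper.int_mul _ 0).symm,
    bdiff_eq_fwdDiff (fun t => P.eval t) f _ hf r _ (by push_cast; omega), ← hP,
    Polynomial.fwdDiff_iter_degree_eq_factorial, pdeg, degP]
  simp [mul_comm, P]

end Groth.Agent.LangWeil75.Sharp
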