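import Groth.Agent.LangWeil75.Sharp.Deg
import Groth.Agent.EGA41Lib.IntDim
import Groth.Agent.ComodLib.GradedAug
import Mathlib.RingTheory.KrullDimension.NonZeroDivisors
import Mathlib.RingTheory.KrullDimension.Polynomial
import Mathlib.RingTheory.Localization.FractionRing
import Mathlib.Analysis.Polynomial.Basic
import Mathlib.Order.Filter.AtTopBot.Archimedean

/-!
Linear projections: a variety is finite over the projection from linear forms without common zero,
and its degree bounds the degree of the projection.
-/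

noncomputable section

set_option linter.style.haveILetI false
set_option linter.unusedSectionVars false

universe u

open MvPolynomial Order Module

namespace Groth.Agent.LangWeil75.Sharp

open Groth.Agent.VarDim Groth.Agent.VarDim.ProjN Groth.Agent.IntTh85 Groth.Agent.IntTh85.GrHilbPoly
open Groth.Agent.IntTh85.GrHilbApp

variable {k : Type u} [Field k] {n r : ℕ}

local notation "𝒜" => CohB1.polyGrading n k
local notation "A" => MvPolynomial (Fin (n + 1)) k

/-- The homogeneous coordinate ring. -/
abbrev CRing (x : ProjectiveSpectrum 𝒜) : Type u := A ⧸ (pp x).asIdeal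

instance (x : ProjectiveSpectrum 𝒜) : IsDomain (CRing x) := (Ideal.Quotient.isDomain_iff_prime _).2 (pp x).2

/-- Substitution of linear forms. -/
abbrev psi (y : Fin (r + 1) → (Fin (n + 1) → k)) : MvPolynomial (Fin (r + 1)) k →ₐ[k] A :=
  aeval fun i => lf (y i)

/-- The projection by linear forms. -/
abbrev phi (x : ProjectiveSpectrum 𝒜) (y : Fin (r + 1) → (Fin (n + 1) → k)) :
    MvPolynomial (Fin (r + 1)) k →ₐ[k] CRing x :=
  (Ideal.Quotient.mkₐ k _).comp (psi y)

/-- The linear forms have no common zero on the variety. -/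
def NoZero (x : ProjectiveSpectrum 𝒜) (y : Fin (r + 1) → (Fin (n + 1) → k)) : Prop :=
  ∀ z, x ≤ z → ∃ i, lf (y i) ∉ (pp z).asIdeal

theorem psi_isHomogeneous (y : Fin (r + 1) → (Fin (n + 1) → k)) {b : MvPolynomial (Fin (r + 1)) k} {m : ℕ}
    (hb : b.IsHomogeneous m) : psi y b ∈ 𝒜 m := by
  have h := hb.aeval (fun i => lf (y i)) (n := 1) fun i => lf_mem (y i)
  rw [one_mul] at h
  exact h

theorem component_mul' {f : A} {d : ℕ} (hf : f ∈ 𝒜 d) (a : A) (m : ℕ) :
    homogeneousComponent (m + d) (f * a) = f * homogeneousComponent m a := by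
  simpa only [proj_apply] using component_mul hf a m

theorem finite_phi {x : ProjectiveSpectrum 𝒜} {y : Fin (r + 1) → (Fin (n + 1) → k)} (hy : NoZero x y) :
    (phi x y).toRingHom.Finite := by
  classical
  set I := (pp x).asIdeal
  set J : Ideal A := I ⊔ Ideal.span (Set.range fun i => lf (y i))
  have hJh : J.IsHomogeneous 𝒜 := Ideal.IsHomogeneous.sup (isHomogeneous_pp x)
    (Ideal.homogeneous_span _ _ (by rintro _ ⟨i, rfl⟩; exact ⟨1, lf_mem (y i)⟩))
  have hrad : ∀ j, (X j : A) ∈ J.radical := fun j => by
    rw [← Ideal.sInf_minimalPrimes, Ideal.mem_sInf]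
    intro q hq
    by_cases hv : q = vertex k n
    · rw [hv]; exact constantCoeff_X (R := k) j
    obtain ⟨z, rfl⟩ := exists_point_minimal hJh hq hv
    obtain ⟨i, hi⟩ := hy z (pp_le_pp.1 (le_sup_left.trans hq.1.2))
    exact absurd (hq.1.2 (Ideal.mem_sup_right (Ideal.subset_span ⟨i, rfl⟩))) hi
  choose N hN using hrad
  set T := ∑ j, N j + 1
  letI : Algebra (MvPolynomial (Fin (r + 1)) k) (CRing x) := (phi x y).toRingHom.toAlgebra
  let S : Finset (Fin (n + 1) →₀ ℕ) := (Finset.range T).biUnion fun m => Finset.univ.finsuppAntidiag m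
  let M : Submodule (MvPolynomial (Fin (r + 1)) k) (CRing x) :=
    Submodule.span _ ((S : Set (Fin (n + 1) →₀ ℕ)).image fun s => Ideal.Quotient.mk I (monomial s 1))
  have hsmul : ∀ (b : MvPolynomial (Fin (r + 1)) k) (a : A),
      b • Ideal.Quotient.mk I a = Ideal.Quotient.mk I (psi y b * a) := fun b a =>
    (Algebra.smul_def _ _).trans (map_mul (Ideal.Quotient.mk I) (psi y b) a).symm
  have hC : ∀ (c : k) (a : A), Ideal.Quotient.mk I a ∈ M → Ideal.Quotient.mk I (C c * a) ∈ M := fun c a ha => by
    have := M.smul_mem (C c) ha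
    rwa [hsmul, psi, aeval_C] at this
  have key : ∀ m, ∀ a : A, a.IsHomogeneous m → Ideal.Quotient.mk I a ∈ M := by
    intro m
    induction m using Nat.strong_induction_on with
    | _ m ih =>
      intro a ha
      rw [a.as_sum, map_sum]
      refine Submodule.sum_mem _ fun s hs => ?_
      rw [← mul_one (coeff s a), ← C_mul_monomial]
      refine hC _ _ ?_
      have hdeg : s.degree = m := by
        by_contra hne
        exact (mem_support_iff.1 hs) (ha.coeff_eq_zero hne)
      by_cases hm : m < T
      · exact Submodule.subset_span ⟨s, Finset.mem_biUnion.2 ⟨m, Finset.mem_range.2 hm, by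
          simp [Finset.mem_finsuppAntidiag, ← hdeg, Finsupp.degree_eq_sum]⟩, rfl⟩
      obtain ⟨j, hj⟩ : ∃ j, N j ≤ s j := by
        by_contra! hall
        have h1 : s.degree ≤ ∑ j, N j := by
          rw [Finsupp.degree_eq_sum]
          exact Finset.sum_le_sum fun j _ => (hall j).le
        omega
      set s' := s - Finsupp.single j (N j)
      have hss : s = Finsupp.single j (N j) + s' := (add_tsub_cancel_of_le (by simpa using hj)).symm
      have hdeg' : s'.degree + N j = m := by
        rw [← hdeg, hss, map_add, Finsupp.degree_single]; omega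
      obtain ⟨p, hp, q, hq, hpq⟩ := Submodule.mem_sup.1 (hN j)
      obtain ⟨c, hc⟩ := (Ideal.mem_span_range_iff_exists_fun).1 hq
      rcases Nat.eq_zero_or_pos (N j) with h0 | h0
      · exfalso
        have h1 := hN j
        rw [h0, pow_zero] at h1
        have h2 : (1 : A) ∈ vertex k n := by
          refine (sup_le (le_vertex_of_isHomogeneous (isHomogeneous_pp x) (pp x).2.ne_top)
            (Ideal.span_le.2 ?_) : J ≤ vertex k n) h1
          rintro _ ⟨i, rfl⟩
          exact IsHomogeneous.coeff_eq_zero (φ := lf (y i)) (n := 1) (lf_mem (y i)) (by simp)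
        exact vertex_isMaximal.ne_top ((Ideal.eq_top_iff_one _).2 h2)
      obtain ⟨N', hN'⟩ := Nat.exists_eq_add_one.2 h0
      have hX : (X j : A) ^ N j = homogeneousComponent (N j) p +
          ∑ i, lf (y i) * homogeneousComponent N' (c i) := by
        conv_lhs => rw [← homogeneousComponent_eq_self (isHomogeneous_X_pow (R := k) j (N j)), ← hpq, ← hc,
          map_add, map_sum]
        refine congrArg _ (Finset.sum_congr rfl fun i _ => ?_)
        rw [hN', mul_comm (c i), component_mul' (lf_mem (y i))]
      have hmon : (monomial s (1 : k) : A) = monomial s' 1 * X j ^ N j := by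
        rw [X_pow_eq_monomial, monomial_mul, one_mul, add_comm s', ← hss]
      rw [hmon, hX, mul_add, Finset.mul_sum, map_add, map_sum]
      refine Submodule.add_mem _ ?_ (Submodule.sum_mem _ fun i _ => ?_)
      · have hp' : homogeneousComponent (N j) p ∈ I :=
          homogeneousComponent_mem_of_mem (isHomogeneous_pp x) hp (N j)
        rw [map_mul, Ideal.Quotient.eq_zero_iff_mem.2 hp', mul_zero]
        exact Submodule.zero_mem _
      · rw [show monomial s' 1 * (lf (y i) * homogeneousComponent N' (c i)) =
          psi y (X i) * (monomial s' 1 * homogeneousComponent N' (c i)) by rw [psi, aeval_X]; ring, ← hsmul]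
        refine Submodule.smul_mem _ _ (ih (s'.degree + N') (by omega) _ ?_)
        exact (isHomogeneous_monomial (1 : k) rfl).mul (homogeneousComponent_isHomogeneous _ _)
  have htop : (⊤ : Submodule (MvPolynomial (Fin (r + 1)) k) (CRing x)) ≤ M := fun z _ => by
    obtain ⟨a, rfl⟩ := Ideal.Quotient.mk_surjective z
    rw [← sum_homogeneousComponent a, map_sum]
    exact Submodule.sum_mem _ fun i _ => key i _ (homogeneousComponent_isHomogeneous i a)
  exact ⟨⟨(S.image fun s => Ideal.Quotient.mk I (monomial s 1)), top_le_iff.1 (htop.trans (le_of_eq (by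
    simp [M, Finset.coe_image])))⟩⟩

theorem injective_phi {x : ProjectiveSpectrum 𝒜} (hx : pdim x = r) {y : Fin (r + 1) → (Fin (n + 1) → k)}
    (hy : NoZero x y) : Function.Injective (phi x y) := by
  rw [injective_iff_map_eq_zero]
  intro c hc
  by_contra hne
  set K := RingHom.ker (phi x y).toRingHom
  letI : Algebra (MvPolynomial (Fin (r + 1)) k) (CRing x) := (phi x y).toRingHom.toAlgebra
  haveI : Module.Finite (MvPolynomial (Fin (r + 1)) k) (CRing x) := finite_phi hy
  have h1 : ringKrullDim (CRing x) = ((r + 1 : ℕ) : WithBot ℕ∞) := by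
    rw [ringKrullDim_eq (isHomogeneous_pp x) (fun h => by
      have := (hilb_point (isHilb_pp x)).2
      rw [h, degP, Polynomial.leadingCoeff_zero, mul_zero] at this
      exact (mul_pos (by positivity) (cc_pos x)).ne this) (isHilb_pp x), natDegree_hp_pp, hx]
    push_cast; rfl
  have h2 : ringKrullDim (CRing x) ≤ ringKrullDim (MvPolynomial (Fin (r + 1)) k ⧸ Ideal.span {c}) := by
    let f : MvPolynomial (Fin (r + 1)) k ⧸ Ideal.span {c} →+* CRing x :=
      Ideal.Quotient.lift _ (phi x y).toRingHom fun a ha => by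
        obtain ⟨b, rfl⟩ := Ideal.mem_span_singleton'.1 ha
        rw [map_mul, show (phi x y).toRingHom c = 0 from hc, mul_zero]
    have hf : f.Finite := RingHom.Finite.of_comp_finite (f := Ideal.Quotient.mk (Ideal.span {c}))
      (by rw [Ideal.Quotient.lift_comp_mk]; exact finite_phi hy)
    letI := f.toAlgebra
    haveI : Module.Finite (MvPolynomial (Fin (r + 1)) k ⧸ Ideal.span {c}) (CRing x) := hf
    exact EGA41Lib.ringKrullDim_le_of_integral
  have h3 := ringKrullDim_quotient_succ_le_of_nonZeroDivisor (mem_nonZeroDivisors_of_ne_zero hne)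
  rw [MvPolynomial.ringKrullDim_of_isNoetherianRing, ringKrullDim_eq_zero_of_field, zero_add,
    Nat.card_eq_fintype_card, Fintype.card_fin] at h3
  have h4 := (add_le_add (h1.ge.trans h2) le_rfl).trans h3
  norm_cast at h4
  omega

/-- A linearly independent homogeneous family bounds the degree from below. -/
theorem card_le_pdeg {x : ProjectiveSpectrum 𝒜} (hx : pdim x = r) {y : Fin (r + 1) → (Fin (n + 1) → k)}
    {D : ℕ} (w : Fin D → A) (e : Fin D → ℕ) (hw : ∀ i, w i ∈ 𝒜 (e i))
    (hind : ∀ b : Fin D → MvPolynomial (Fin (r + 1)) k,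
      ∑ i, phi x y (b i) * Ideal.Quotient.mk (pp x).asIdeal (w i) = 0 → ∀ i, b i = 0) :
    (D : ℚ) ≤ pdeg x := by
  classical
  set I := (pp x).asIdeal
  set E := Finset.univ.sup e
  obtain ⟨m₀, hm₀⟩ := isHilb_pp x
  have hfin := fun j => ComodLib.GradedAug.finrank_homogeneous (k := k) (r + 1) j
  have hkey : ∀ m, m₀ + E ≤ m → (∑ i, ((r + (m - e i)).choose r : ℚ)) ≤ (hp I).eval (m : ℚ) := by
    intro m hm
    have he : ∀ i, e i ≤ m := fun i => (Finset.le_sup (f := e) (Finset.mem_univ i)).trans (by omega)
    haveI : ∀ i, Module.Finite k (homogeneousSubmodule (Fin (r + 1)) k (m - e i)) := fun i => (hfin _).1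
    let F : (Π i, homogeneousSubmodule (Fin (r + 1)) k (m - e i)) →ₗ[k] 𝒜 m :=
      { toFun := fun b => ⟨∑ i, psi y (b i).1 * w i, Submodule.sum_mem _ fun i _ => by
          have h := SetLike.mul_mem_graded (psi_isHomogeneous y (b i).2) (hw i)
          rwa [Nat.sub_add_cancel (he i)] at h⟩
        map_add' := fun b b' => Subtype.ext (by
          simp only [Pi.add_apply, Submodule.coe_add, map_add, add_mul, Finset.sum_add_distrib])
        map_smul' := fun c b => Subtype.ext (by
          simp only [Pi.smul_apply, SetLike.val_smul, map_smul, smul_mul_assoc, Finset.smul_sum,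
            RingHom.id_apply]) }
    let q : 𝒜 m →ₗ[k] CRing x := (Ideal.Quotient.mkₐ k I).toLinearMap.comp (𝒜 m).subtype
    have hinj : Function.Injective (q.comp F) := by
      rw [← LinearMap.ker_eq_bot, LinearMap.ker_eq_bot']
      intro b hb
      funext i
      refine Subtype.ext (hind (fun i => (b i).1) ?_ i)
      rw [← hb]
      show _ = Ideal.Quotient.mk I (∑ i, psi y (b i).1 * w i)
      rw [map_sum]
      exact Finset.sum_congr rfl fun i _ => map_mul (Ideal.Quotient.mk I) _ _
    have h1 := LinearMap.finrank_le_finrank_of_injective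
      (f := LinearMap.codRestrict (LinearMap.range q) (q.comp F) fun b => ⟨F b, rfl⟩)
      fun a b h => hinj (congrArg Subtype.val h)
    have h2 := LinearMap.finrank_range_add_finrank_ker q
    have h3 : finrank k (LinearMap.ker q) = finrank k ↥(Submodule.restrictScalars k I ⊓ 𝒜 m) := by
      have : LinearMap.ker q = (Submodule.restrictScalars k I).comap (𝒜 m).subtype := by
        ext a; simp [q, Ideal.Quotient.eq_zero_iff_mem]
      have h5 : (Submodule.restrictScalars k I ⊓ 𝒜 m).comap (𝒜 m).subtype =
          (Submodule.restrictScalars k I).comap (𝒜 m).subtype := by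
        ext a; simp [a.2]
      rw [this, ← h5]
      exact (Submodule.comapSubtypeEquivOfLe inf_le_right).finrank_eq
    rw [hm₀ m (by omega), H, ← h3, ← h2]
    push_cast
    rw [add_sub_cancel_right]
    refine le_trans (le_of_eq ?_) (Nat.cast_le.2 h1)
    rw [Module.finrank_pi_fintype, Nat.cast_sum]
    refine Finset.sum_congr rfl fun i _ => ?_
    rw [(hfin _).2, show r + 1 + (m - e i) - 1 = r + (m - e i) by omega, Nat.choose_symm_add]
  by_contra hlt
  rw [not_le] at hlt
  set P := hp I
  have hP : P.natDegree = r := (natDegree_hp_pp x).trans hx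
  let Q : Polynomial ℚ := Polynomial.C ((D : ℚ) / r.factorial) *
    (Polynomial.X + Polynomial.C (-(E : ℚ))) ^ r - P
  have hQd : Q.natDegree ≤ r := Polynomial.natDegree_sub_le_of_le
    ((Polynomial.natDegree_C_mul_le _ _).trans (by
      rw [Polynomial.natDegree_pow, Polynomial.natDegree_X_add_C, mul_one])) hP.le |>.trans (by simp)
  have hQc : 0 < Q.coeff r := by
    rw [Polynomial.coeff_sub, Polynomial.coeff_C_mul, Polynomial.coeff_X_add_C_pow, Nat.sub_self, pow_zero,
      one_mul, Nat.choose_self, Nat.cast_one, mul_one, sub_pos, lt_div_iff₀ (by positivity)]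
    rw [pdeg, degP, hP, Polynomial.leadingCoeff, hP, mul_comm] at hlt
    exact hlt
  rcases Nat.eq_zero_or_pos r with h0 | h0
  · subst h0
    obtain ⟨c, hc⟩ := Polynomial.natDegree_eq_zero.1 (Nat.le_zero.1 hQd)
    have h := hkey (m₀ + E) le_rfl
    rw [← hc, Polynomial.coeff_C_zero] at hQc
    have h' : Q.eval ((m₀ + E : ℕ) : ℚ) = c := by rw [← hc, Polynomial.eval_C]
    simp only [Q, Polynomial.eval_sub, pow_zero, mul_one, Polynomial.eval_C, Nat.factorial_zero,
      Nat.cast_one, div_one] at h'
    simp only [Nat.choose_zero_right, Nat.cast_one, Finset.sum_const, Finset.card_univ, Fintype.card_fin,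
      nsmul_eq_mul, mul_one] at h
    linarith
  have hQn : Q.natDegree = r := le_antisymm hQd (Polynomial.le_natDegree_of_ne_zero hQc.ne')
  have hT : Filter.Tendsto (fun t : ℚ => Q.eval t) Filter.atTop Filter.atTop :=
    Polynomial.tendsto_atTop_of_leadingCoeff_nonneg Q
      (Polynomial.natDegree_pos_iff_degree_pos.1 (hQn.symm ▸ h0))
      (by rw [Polynomial.leadingCoeff, hQn]; exact hQc.le)
  obtain ⟨m, hm1, hm2⟩ := ((Filter.eventually_ge_atTop (m₀ + E)).and
    ((hT.comp tendsto_natCast_atTop_atTop).eventually (Filter.eventually_gt_atTop 0))).exists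
  have hle : ∀ i, ((m : ℚ) - E) ^ r / r.factorial ≤ ((r + (m - e i)).choose r : ℚ) := fun i => by
    refine le_trans ?_ (Nat.pow_le_choose r (r + (m - e i)))
    gcongr
    · rw [sub_nonneg]; exact_mod_cast (by omega : E ≤ m)
    · have h7 : e i ≤ E := Finset.le_sup (f := e) (Finset.mem_univ i)
      rw [sub_le_iff_le_add]
      exact_mod_cast (by omega : m ≤ r + (m - e i) + 1 - r + E)
  have hsum := le_trans (Finset.sum_le_sum fun i _ => hle i) (hkey m hm1)
  rw [Finset.sum_const, Finset.card_univ, Fintype.card_fin, nsmul_eq_mul] at hsum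
  simp only [Function.comp_apply, Q, Polynomial.eval_sub, Polynomial.eval_mul, Polynomial.eval_C,
    Polynomial.eval_pow, Polynomial.eval_add, Polynomial.eval_X, sub_pos] at hm2
  rw [← sub_eq_add_neg, div_mul_eq_mul_div, ← mul_div_assoc'] at hm2
  linarith

end Groth.Agent.LangWeil75.Sharp
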